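import Cfsg.Agent.OddOrderCharacters.InertiaAbelian
import Cfsg.Agent.OddOrderCharacters.IndRes
import Cfsg.Agent.OddOrderCharacters.Clifford

/-!
# Irreducible characters of a subgroup of index two (helper180)

`index_two` : an irreducible character of a subgroup `H` of index 2 extends, or induces to an irreducible character.
-/

set_option autoImplicit false

namespace Cfsg.Agent.H180.PSD

open Cfsg Cfsg.Agent.Characters Cfsg.Agent.Characters.Core Cfsg.Agent.OddOrderCharacters
open scoped ComplexConjugate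

universe u

variable {G : Type u} [Group G]

/-- a character of degree 0 is 0 -/
theorem isCharacter_eq_zero [Finite G] {χ : G → ℂ} (hχ : IsCharacter G χ) (h : χ 1 = 0) : χ = 0 := by
  classical
  have : Finite (IrrCharacter G) := Core.finite_irr
  let _ : Fintype (IrrCharacter G) := Fintype.ofFinite _
  obtain ⟨m, hm⟩ := Core.isCharacter_iff.1 hχ
  choose d hd0 hd using fun ψ : IrrCharacter G => Core.isIrr_apply_one ψ.2
  have h1 : χ 1 = ((∑ ψ : IrrCharacter G, m ψ * d ψ : ℕ) : ℂ) := by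
    rw [hm, Finset.sum_apply]
    push_cast
    refine Finset.sum_congr rfl fun ψ _ => ?_
    rw [Pi.smul_apply, hd ψ, nsmul_eq_mul]
  have h2 : ∑ ψ : IrrCharacter G, m ψ * d ψ = 0 := by
    rw [h1] at h
    exact_mod_cast h
  rw [hm]
  refine Finset.sum_eq_zero fun ψ hψ => ?_
  have h3 := (Finset.sum_eq_zero_iff.1 h2) ψ hψ
  rcases Nat.mul_eq_zero.1 h3 with h4 | h4
  · rw [h4, zero_smul]
  · exact absurd h4 (hd0 ψ).ne'

open Classical in
/-- the values of a character induced from a subgroup of index 2 -/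
theorem ind_two [Fintype G] (H : Subgroup G) (hidx : H.index = 2) [hN : H.Normal] {θ : H → ℂ} (hθ : IsClassFunction H θ)
    {t : G} (ht : t ∉ H) (h : H) : indFun H θ h = θ h + θ ⟨t * h * t⁻¹, hN.conj_mem h h.2 t⟩ := by
  have hcardH : (Nat.card H : ℂ) ≠ 0 := by exact_mod_cast Nat.card_pos.ne'
  have hGH : Nat.card G = 2 * Nat.card H := by rw [← H.index_mul_card, hidx]
  have h1 : ∀ x : G, extendByZero H θ (x⁻¹ * h * x) =
      (if x ∈ H then θ h else 0) + (if x ∉ H then θ ⟨t * h * t⁻¹, hN.conj_mem h h.2 t⟩ else 0) := by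
    intro x
    have hx : x⁻¹ * (h : G) * x ∈ H := by
      have := hN.conj_mem h h.2 x⁻¹
      rwa [inv_inv] at this
    have h2 : extendByZero H θ (x⁻¹ * h * x) = θ ⟨x⁻¹ * h * x, hx⟩ :=
      IndRes.ext_coe H θ ⟨x⁻¹ * h * x, hx⟩
    rw [h2]
    by_cases hxH : x ∈ H
    · rw [if_pos hxH, if_neg (not_not.2 hxH), add_zero, ← hθ h ⟨x⁻¹, H.inv_mem hxH⟩]
      congr 1
      apply Subtype.ext
      simp
    · rw [if_neg hxH, if_pos hxH, zero_add]
      have h3 : t * x ∈ H := by
        rw [Subgroup.mul_mem_iff_of_index_two hidx]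
        tauto
      rw [← hθ ⟨t * h * t⁻¹, hN.conj_mem h h.2 t⟩ ⟨(t * x)⁻¹, H.inv_mem h3⟩]
      congr 1
      apply Subtype.ext
      show x⁻¹ * h * x = (t * x)⁻¹ * (t * h * t⁻¹) * (t * x)⁻¹⁻¹
      group
  have h4 : (Finset.univ.filter fun x : G => x ∈ H).card = Nat.card H := by
    rw [Nat.card_eq_fintype_card, Fintype.card_subtype]
  have h5 : (Finset.univ.filter fun x : G => x ∉ H).card = Nat.card H := by
    have h6 := Finset.card_filter_add_card_filter_not (s := (Finset.univ : Finset G)) (fun x => x ∈ H)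
    rw [Finset.card_univ, ← Nat.card_eq_fintype_card (α := G), hGH, h4] at h6
    omega
  rw [indFun, Finset.sum_congr rfl fun x _ => h1 x, Finset.sum_add_distrib, ← Finset.sum_filter, ← Finset.sum_filter,
    Finset.sum_const, Finset.sum_const, h4, h5, nsmul_eq_mul, nsmul_eq_mul, ← mul_add, ← mul_assoc,
    inv_mul_cancel₀ hcardH, one_mul]

/-- **Clifford theory for a subgroup of index 2**, with the values. -/
theorem index_two' [Finite G] (H : Subgroup G) (hidx : H.index = 2) [hN : H.Normal] {θ : H → ℂ}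
    (hθ : IsIrrCharacter H θ) :
    ∃ ψ : G → ℂ, IsIrrCharacter G ψ ∧ ((∀ h : H, ψ h = θ h) ∨ (ψ 1 = 2 * θ 1 ∧ (∀ g : G, g ∉ H → ψ g = 0) ∧
      ∀ t : G, t ∉ H → ∀ h : H, ψ h = θ h + θ ⟨t * h * t⁻¹, hN.conj_mem h h.2 t⟩)) := by
  classical
  have _ := Fintype.ofFinite G
  have _ := Fintype.ofFinite H
  have hcardH : 0 < Nat.card H := Nat.card_pos
  have hGH : Nat.card G = 2 * Nat.card H := by rw [← H.index_mul_card, hidx]
  have hab : ∀ x y : G, x * y * x⁻¹ * y⁻¹ ∈ H := by
    intro x y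
    have h1 := Subgroup.mul_mem_iff_of_index_two hidx (a := x) (b := y)
    have h2 := Subgroup.mul_mem_iff_of_index_two hidx (a := x * y) (b := x⁻¹)
    have h3 := Subgroup.mul_mem_iff_of_index_two hidx (a := x * y * x⁻¹) (b := y⁻¹)
    rw [H.inv_mem_iff] at h2 h3
    rw [h3, h2, h1]
    tauto
  by_cases hinv : ∀ g : G, ∀ h : H, θ ⟨g * h * g⁻¹, hN.conj_mem h h.2 g⟩ = θ h
  · obtain ⟨e, C, he, hC, hcard, hind, hdeg, -⟩ := InertiaAbelian.main H ⊤ θ hθ (fun g => ⟨fun _ => hinv g, fun _ => trivial⟩)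
      (fun x _ y _ => hab x y)
    rw [Subgroup.card_top, hGH] at hcard
    have h1 : e ^ 2 * C.card = 2 := Nat.eq_of_mul_eq_mul_right hcardH hcard
    have h2 : e = 1 := by
      have h3 : e < 2 := by
        by_contra h4
        have h5 : 2 ≤ e := not_lt.1 h4
        have h6 : C.card ≠ 0 := by rintro h7; rw [h7] at h1; omega
        have h7 : 0 < C.card := Nat.pos_of_ne_zero h6
        nlinarith
      omega
    subst h2
    rw [one_pow, one_mul] at h1
    obtain ⟨ψ, hψ⟩ := Finset.card_pos.1 (by rw [h1]; norm_num : 0 < C.card)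
    have hψi := hC ψ hψ
    refine ⟨ψ, hψi, Or.inl ?_⟩
    have hcl := isIrr_isClassFunction hψi
    have h3 : classInner (indFun H θ) ψ = 1 := by
      rw [hind, Nat.cast_one, one_smul, Core.classInner_sum_left, Finset.sum_eq_single ψ, classInner_irr_self hψi]
      · intro χ hχ hne
        exact classInner_irr_ne (hC χ hχ) hψi hne
      · intro h; exact absurd hψ h
    rw [IndRes.classInner_indFun_left H θ hcl] at h3
    have h4 : classInner (IndRes.res H ψ) θ ≠ 0 := by
      intro h5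
      have h6 : classInner θ (IndRes.res H ψ) = conj (classInner (IndRes.res H ψ) θ) :=
        (classInner_conj_symm (IndRes.res H ψ) θ).symm
      rw [h5, map_zero] at h6
      rw [h6] at h3
      exact zero_ne_one h3
    have h5 := Clifford.isCharacter_sub_irr (IndRes.isCharacter_res (H := H) (isIrr_isCharacter hψi)) hθ h4
    have h6 := isCharacter_eq_zero h5 (by
      rw [Pi.sub_apply, IndRes.res_apply]
      have h7 := hdeg ψ hψ
      rw [Subgroup.index_top, Nat.cast_one, one_mul, one_mul] at h7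
      have h8 : ((1 : H) : G) = 1 := rfl
      rw [h8, h7, sub_self])
    intro h
    have h7 := congrFun h6 h
    rw [Pi.sub_apply, IndRes.res_apply, Pi.zero_apply, sub_eq_zero] at h7
    exact h7
  · push Not at hinv
    obtain ⟨g0, h0, hg0⟩ := hinv
    have hcl := isIrr_isClassFunction hθ
    have hHT : ∀ g ∈ H, ∀ h : H, θ ⟨g * h * g⁻¹, hN.conj_mem h h.2 g⟩ = θ h := by
      intro g hg h
      rw [← hcl h ⟨g, hg⟩]
      rfl
    have hmul : ∀ a b : G, (∀ h : H, θ ⟨a * h * a⁻¹, hN.conj_mem h h.2 a⟩ = θ h) →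
        (∀ h : H, θ ⟨b * h * b⁻¹, hN.conj_mem h h.2 b⟩ = θ h) →
        ∀ h : H, θ ⟨a * b * h * (a * b)⁻¹, hN.conj_mem h h.2 (a * b)⟩ = θ h := by
      intro a b ha hb h
      rw [← hb h, ← ha ⟨b * h * b⁻¹, hN.conj_mem h h.2 b⟩]
      congr 1
      apply Subtype.ext
      show a * b * h * (a * b)⁻¹ = a * (b * h * b⁻¹) * a⁻¹
      group
    have hT : ∀ g : G, g ∈ H ↔ ∀ h : H, θ ⟨g * h * g⁻¹, hN.conj_mem h h.2 g⟩ = θ h := by
      intro g
      refine ⟨hHT g, fun hg => ?_⟩
      by_contra hgH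
      apply hg0
      have hg0H : g0 ∉ H := fun h => hg0 (hHT g0 h h0)
      have h1 : g⁻¹ * g0 ∈ H := by
        rw [Subgroup.mul_mem_iff_of_index_two hidx, H.inv_mem_iff]
        tauto
      have h2 := hmul g (g⁻¹ * g0) hg (hHT _ h1) h0
      rw [← h2]
      congr 1
      apply Subtype.ext
      show g0 * h0 * g0⁻¹ = g * (g⁻¹ * g0) * h0 * (g * (g⁻¹ * g0))⁻¹
      group
    obtain ⟨e, C, he, hC, hcard, hind, hdeg, -⟩ := InertiaAbelian.main H H θ hθ hT (fun x _ y _ => hab x y)
    have h1 : e ^ 2 * C.card = 1 := Nat.eq_of_mul_eq_mul_right hcardH (by rw [hcard, one_mul])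
    have h2 : e ^ 2 = 1 := Nat.eq_one_of_mul_eq_one_right h1
    have h3 : C.card = 1 := Nat.eq_one_of_mul_eq_one_left h1
    have he1 : e = 1 := by
      rw [pow_two] at h2
      exact Nat.eq_one_of_mul_eq_one_right h2
    subst he1
    obtain ⟨ψ, rfl⟩ := Finset.card_eq_one.1 h3
    refine ⟨ψ, hC ψ (Finset.mem_singleton_self _), Or.inr ⟨?_, ?_, ?_⟩⟩
    · rw [hdeg ψ (Finset.mem_singleton_self _), hidx]
      push_cast
      ring
    · intro g hg
      rw [Finset.sum_singleton, Nat.cast_one, one_smul] at hind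
      rw [← hind, indFun]
      refine mul_eq_zero_of_right _ (Finset.sum_eq_zero fun x _ => ?_)
      rw [extendByZero, Function.extend_apply']
      · rfl
      · rintro ⟨a, ha⟩
        apply hg
        have h4 := hN.conj_mem a a.2 x
        rw [ha] at h4
        have h5 : x * (x⁻¹ * g * x) * x⁻¹ = g := by group
        rwa [h5] at h4
    · intro t ht h
      rw [Finset.sum_singleton, Nat.cast_one, one_smul] at hind
      rw [← hind]
      exact ind_two H hidx hcl ht h

/-- **Clifford theory for a subgroup of index 2.** -/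
theorem index_two [Finite G] (H : Subgroup G) (hidx : H.index = 2) {θ : H → ℂ} (hθ : IsIrrCharacter H θ) :
    ∃ ψ : G → ℂ, IsIrrCharacter G ψ ∧ ((∀ h : H, ψ h = θ h) ∨ (ψ 1 = 2 * θ 1 ∧ ∀ g : G, g ∉ H → ψ g = 0)) := by
  have hN : H.Normal := Subgroup.normal_of_index_eq_two hidx
  obtain ⟨ψ, hψ, h⟩ := index_two' H hidx hθ
  exact ⟨ψ, hψ, h.imp_right fun h => ⟨h.1, h.2.1⟩⟩

end Cfsg.Agent.H180.PSD
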