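import Cfsg.Agent.H180.PSD.Rank
import Cfsg.Agent.H180.PSD.Lift
import Cfsg.Agent.H844.NB.FiFour

/-!
# The values of the irreducible characters of `Fi24` on the transpositions and on their products (helper180)

`exists_vals`; `lift` : a character of `Fi24'` extends to `Fi24` or induces to an irreducible character.
-/

set_option autoImplicit false

namespace Cfsg.Agent.H180.PSD

open Cfsg Cfsg.Spor Cfsg.Agent.Characters Cfsg.Agent.Characters.Core
open Cfsg.Agent.Fischer.Abstract Cfsg.Agent.LThreeM.SrgFix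
open Cfsg.Agent.R08.FiTwentyFour (L facts)

/-- values of a character of `Fi24` : degree, transpositions, products of two transpositions -/
structure Vals (psi : IrrCharacter Spor.Fi24) (n u B C : ℤ) : Prop where
  one : (psi : Spor.Fi24 → ℂ) 1 = n
  pos : 0 < n
  val_d : ∀ d ∈ L, (psi : Spor.Fi24 → ℂ) d = u
  val_c : ∀ d ∈ L, ∀ e ∈ L, d ≠ e → Commute d e → (psi : Spor.Fi24 → ℂ) (d * e) = B
  val_n : ∀ d ∈ L, ∀ e ∈ L, ¬ Commute d e → (psi : Spor.Fi24 → ℂ) (d * e) = C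
  rel : n * (n + 31671 * B + 275264 * C) = 306936 * u ^ 2
  psd1 : 0 ≤ n + 351 * B - 352 * C
  psd2 : 0 ≤ n - 81 * B + 80 * C
  dvd_u : n ∣ 306936 * u
  dvd_B : n ∣ 4860485028 * B

theorem exists_vals (psi : IrrCharacter Spor.Fi24) : ∃ n u B C : ℤ, Vals psi n u B C := by
  classical
  have hfin' := Cfsg.Agent.R08.FiTwentyFour.finite_Fi24
  obtain ⟨R, h0, -, hL⟩ := facts.exists_rank3
  have hcard := H844.NB.card_X24 R hL
  have hfX : Finite (Spor.Fi24 ⧸ Fischer.Fi24RepOrb.H) := Nat.finite_of_card_ne_zero (by rw [hcard]; norm_num)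
  have _ := Fintype.ofFinite (Spor.Fi24 ⧸ Fischer.Fi24RepOrb.H)
  have hcard' : Fintype.card (Spor.Fi24 ⧸ Fischer.Fi24RepOrb.H) = 306936 := by rw [← Nat.card_eq_fintype_card, hcard]
  have hk := H844.NB.nb_card24 R hL
  have hl := H844.NB.cn_c24 R hL h0
  have hm := H844.NB.cn_b24 R hL h0
  obtain ⟨n, u, B, C, h1, h2, h3, h4, h5, h6, h7, h8⟩ := exists_rank3_vals R psi.2 (k := 31671) (l := 275264) hk
    (by rw [hcard']) (by norm_num)
  rw [hcard'] at h6 h7 h8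
  have _ := Fintype.ofFinite Spor.Fi24
  have hmem : ∀ d, d ∈ L ↔ ∃ x, R.t x = d := fun d => by rw [← hL]; exact Iff.rfl
  refine ⟨n, u, B, C, h1, h2, ?_, ?_, ?_, by exact_mod_cast h6, ?_, ?_, by exact_mod_cast h7, ?_⟩
  · intro d hd
    obtain ⟨x, rfl⟩ := (hmem d).1 hd
    rw [val_t R psi.2, h3]
  · intro d hd e he hne hc
    obtain ⟨x, rfl⟩ := (hmem d).1 hd
    obtain ⟨y, rfl⟩ := (hmem e).1 he
    rw [val_adj R psi.2 (x := x) (y := y) ⟨fun h => hne (by rw [h]), hc⟩, h4]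
  · intro d hd e he hn
    obtain ⟨x, rfl⟩ := (hmem d).1 hd
    obtain ⟨y, rfl⟩ := (hmem e).1 he
    rw [val_ncom R psi.2 (x := x) (y := y) hn, h5]
  · have h := psd_rank3 R psi.2 hk hl hm (r := 351) (s := -81) (by norm_num) (by norm_num) (by norm_num) (n := (n : ℚ))
      (B := (B : ℚ)) (C := (C : ℚ)) (by rw [h1]; push_cast; rfl) (by exact_mod_cast h2) (by rw [h4]; push_cast; rfl)
      (by rw [h5]; push_cast; rfl)
    have h' : (0 : ℚ) ≤ ((n + 351 * B - 352 * C : ℤ) : ℚ) := by push_cast; linarith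
    exact_mod_cast h'
  · have h := psd_rank3 R psi.2 hk hl hm (r := -81) (s := 351) (by norm_num) (by norm_num) (by norm_num) (n := (n : ℚ))
      (B := (B : ℚ)) (C := (C : ℚ)) (by rw [h1]; push_cast; rfl) (by exact_mod_cast h2) (by rw [h4]; push_cast; rfl)
      (by rw [h5]; push_cast; rfl)
    have h' : (0 : ℚ) ≤ ((n - 81 * B + 80 * C : ℤ) : ℚ) := by push_cast; linarith
    exact_mod_cast h'
  · obtain ⟨c, hc⟩ := h8
    refine ⟨c, ?_⟩
    push_cast at hc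
    linarith

/-- a character of `Fi24'` extends to `Fi24`, or induces to an irreducible character -/
theorem lift (chi : IrrCharacter Spor.Fi24') : ∃ psi : IrrCharacter Spor.Fi24,
    (∀ g : Spor.Fi24', (psi : Spor.Fi24 → ℂ) (g : Spor.Fi24) = (chi : Spor.Fi24' → ℂ) g) ∨
      ((psi : Spor.Fi24 → ℂ) 1 = 2 * (chi : Spor.Fi24' → ℂ) 1 ∧
        ∀ g : Spor.Fi24, g ∉ commutator Spor.Fi24 → (psi : Spor.Fi24 → ℂ) g = 0) := by
  have hfin' := Cfsg.Agent.R08.FiTwentyFour.finite_Fi24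
  obtain ⟨ψ, hψ, h⟩ := index_two (commutator Spor.Fi24) Cfsg.Agent.R08.FiTwentyFour.index_commutator chi.2
  exact ⟨⟨ψ, hψ⟩, h⟩

/-- `lift` with the values of the induced character -/
theorem lift' (chi : IrrCharacter Spor.Fi24') : ∃ psi : IrrCharacter Spor.Fi24,
    (∀ g : Spor.Fi24', (psi : Spor.Fi24 → ℂ) (g : Spor.Fi24) = (chi : Spor.Fi24' → ℂ) g) ∨
      ((psi : Spor.Fi24 → ℂ) 1 = 2 * (chi : Spor.Fi24' → ℂ) 1 ∧
        (∀ g : Spor.Fi24, g ∉ commutator Spor.Fi24 → (psi : Spor.Fi24 → ℂ) g = 0) ∧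
        (∀ t : Spor.Fi24, t ∉ commutator Spor.Fi24 → ∀ g g' : Spor.Fi24', (g' : Spor.Fi24) = t * g * t⁻¹ →
          (psi : Spor.Fi24 → ℂ) (g : Spor.Fi24) = (chi : Spor.Fi24' → ℂ) g + (chi : Spor.Fi24' → ℂ) g') ∧
        ∀ t : Spor.Fi24, t ∉ commutator Spor.Fi24 → ∀ g : Spor.Fi24', Commute t (g : Spor.Fi24) →
          (psi : Spor.Fi24 → ℂ) (g : Spor.Fi24) = 2 * (chi : Spor.Fi24' → ℂ) g) := by
  have hfin' := Cfsg.Agent.R08.FiTwentyFour.finite_Fi24
  obtain ⟨ψ, hψ, h⟩ := index_two' (commutator Spor.Fi24) Cfsg.Agent.R08.FiTwentyFour.index_commutator chi.2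
  have key : ∀ t : Spor.Fi24, ∀ g g' : Spor.Fi24', (g' : Spor.Fi24) = t * g * t⁻¹ →
      (⟨t * g * t⁻¹, (inferInstance : (commutator Spor.Fi24).Normal).conj_mem g g.2 t⟩ : Spor.Fi24') = g' :=
    fun t g g' h => Subtype.ext h.symm
  refine ⟨⟨ψ, hψ⟩, h.imp_right fun h => ⟨h.1, h.2.1, fun t ht g g' hg => ?_, fun t ht g hg => ?_⟩⟩
  · have h1 := h.2.2 t ht g
    rw [key t g g' hg] at h1
    exact h1
  · have h1 := h.2.2 t ht g
    rw [key t g g (by rw [hg.eq, mul_inv_cancel_right]), ← two_mul] at h1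
    exact h1

end Cfsg.Agent.H180.PSD
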