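import Cfsg.Agent.Characters.ClassMul
import Cfsg.Agent.LThreeM.FiTwo

/-!
# Gram matrices of irreducible characters on a rank three class (helper180)

* `gram` : `∑_y χ(a y) conj χ(b y) = |G| / χ(1) χ(a b⁻¹)`; `psd` : the matrix `χ(t x (t y)⁻¹)` is positive semidefinite;
* `psd_rank3` : `n + r B - (1 + r) C ≥ 0` for the eigenvalues `r` of the rank three graph;
* `rel_rank3` : `n (n + k B + l C) = |X| u²`.
-/

set_option autoImplicit false

namespace Cfsg.Agent.H180.PSD

open Cfsg Cfsg.Agent.Characters Cfsg.Agent.Characters.Core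
open Cfsg.Agent.Fischer.Abstract Cfsg.Agent.LThreeM.SrgFix Cfsg.Agent.LThreeM.Benson
open scoped ComplexConjugate

universe u

section

variable {G : Type u} [Group G] [Fintype G] {χ : G → ℂ}

theorem apply_inv (hχ : IsIrrCharacter G χ) (g : G) : χ g⁻¹ = conj (χ g) := by
  obtain ⟨n, ρ, -, h⟩ := hχ
  exact Core.isCharacter_apply_inv ⟨n, ρ, h⟩ g

theorem gram (hχ : IsIrrCharacter G χ) (a b : G) :
    ∑ y : G, χ (a * y) * conj (χ (b * y)) = (Nat.card G : ℂ) * χ (a * b⁻¹) / χ 1 := by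
  rw [← Central.sum_char_mul_char_inv_mul hχ]
  refine Fintype.sum_equiv (Equiv.mulLeft a) _ _ fun y => ?_
  rw [← apply_inv hχ]
  simp only [Equiv.coe_mulLeft]
  congr 2
  group

/-- the Gram matrix is positive semidefinite -/
theorem psd_sum (hχ : IsIrrCharacter G χ) {n : ℝ} (hn : χ 1 = n) (hpos : 0 < n) {X : Type*} [Fintype X] (t : X → G)
    (f : X → ℝ) : ∃ q : ℝ, 0 ≤ q ∧ ∑ x, ∑ y, (f x : ℂ) * (f y : ℂ) * χ (t x * (t y)⁻¹) = q := by
  set N : ℝ := (Nat.card G : ℝ) with hN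
  have hN0 : 0 < N := by rw [hN]; exact_mod_cast Nat.card_pos
  have key : ((∑ y : G, ‖∑ x, (f x : ℂ) * χ (t x * y)‖ ^ 2 : ℝ) : ℂ) =
      (N : ℂ) / n * ∑ x, ∑ y, (f x : ℂ) * (f y : ℂ) * χ (t x * (t y)⁻¹) := by
    push_cast
    have h1 : ∀ y : G, ((‖∑ x, (f x : ℂ) * χ (t x * y)‖ : ℂ)) ^ 2 =
        ∑ x, ∑ x', (f x : ℂ) * (f x' : ℂ) * (χ (t x * y) * conj (χ (t x' * y))) := by
      intro y
      rw [← Complex.mul_conj', map_sum, Finset.sum_mul_sum]
      refine Finset.sum_congr rfl fun x _ => Finset.sum_congr rfl fun x' _ => ?_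
      rw [map_mul, Complex.conj_ofReal]
      ring
    rw [Finset.sum_congr rfl fun y _ => h1 y, Finset.sum_comm, Finset.mul_sum]
    refine Finset.sum_congr rfl fun x _ => ?_
    rw [Finset.sum_comm, Finset.mul_sum]
    refine Finset.sum_congr rfl fun x' _ => ?_
    rw [← Finset.mul_sum, gram hχ, hn]
    have h2 : ((Nat.card G : ℂ)) = (N : ℂ) := by rw [hN]; push_cast; rfl
    rw [h2]
    ring
  refine ⟨n / N * ∑ y : G, ‖∑ x, (f x : ℂ) * χ (t x * y)‖ ^ 2, ?_, ?_⟩
  · exact mul_nonneg (div_nonneg hpos.le hN0.le) (Finset.sum_nonneg fun y _ => by positivity)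
  · rw [Complex.ofReal_mul, key, ← mul_assoc]
    have h3 : ((n / N : ℝ) : ℂ) * ((N : ℂ) / n) = 1 := by
      have h4 : (n : ℂ) ≠ 0 := by exact_mod_cast hpos.ne'
      have h5 : (N : ℂ) ≠ 0 := by exact_mod_cast hN0.ne'
      rw [Complex.ofReal_div, div_mul_div_comm, mul_comm (N : ℂ), div_self (mul_ne_zero h4 h5)]
    rw [h3, one_mul]

end

section

variable {G X : Type*} [Group G] [MulAction G X] (R : Rank3 G X) [Fintype X]

open Classical in
/-- an eigenvector of the rank three graph -/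
theorem exists_eigen {k l m : ℕ} (hk : (nb R R.x0).ncard = k) (hl : (cn R R.x0 R.c).ncard = l)
    (hm : (cn R R.x0 R.b).ncard = m) {r s : ℚ} (h1 : r + s = (l : ℚ) - m) (h2 : r * s = m - k) (hs : s ≠ -1) :
    ∃ f : X → ℚ, f ≠ 0 ∧ (A R).mulVec f = r • f ∧ ∑ x, f x = 0 := by
  set g : X → ℚ := Pi.single R.x0 1 - Pi.single R.c 1 with hg
  have hJg : (J X : Matrix X X ℚ).mulVec g = 0 := by
    funext x
    simp only [J, Matrix.mulVec, dotProduct, Matrix.of_apply, one_mul, hg, Pi.sub_apply, Finset.sum_sub_distrib,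
      Finset.sum_pi_single', Finset.mem_univ, if_true, sub_self, Pi.zero_apply]
  set M : Matrix X X ℚ := A R - s • 1 with hM
  have hAM : A R * M = r • M + (m : ℚ) • J X := by
    rw [hM, mul_sub, A_sq R hk hl hm, mul_smul_comm, mul_one]
    have e1 : (l : ℚ) = r + s + m := by rw [h1]; ring
    have e2 : (k : ℚ) = m - r * s := by rw [h2]; ring
    rw [e1, e2]
    module
  refine ⟨M.mulVec g, ?_, ?_, ?_⟩
  · intro h0
    have h3 := congrFun h0 R.x0
    have hadj := adj_x0_c R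
    have hx : ¬ Adj R R.x0 R.x0 := fun h => h.1 rfl
    rw [hM, Matrix.sub_mulVec, Matrix.smul_mulVec, Matrix.one_mulVec, hg, Matrix.mulVec_sub,
      Matrix.mulVec_single_one, Matrix.mulVec_single_one] at h3
    simp only [Pi.sub_apply, Matrix.col_apply, A, Matrix.of_apply, if_neg hx, if_pos hadj, Pi.smul_apply, Pi.single_eq_same,
      Pi.zero_apply, smul_eq_mul, Pi.single_eq_of_ne R.c_ne_x0.symm] at h3
    apply hs
    linarith
  · rw [Matrix.mulVec_mulVec, hAM, Matrix.add_mulVec, Matrix.smul_mulVec, Matrix.smul_mulVec, hJg, smul_zero,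
      add_zero]
  · have hJM : J X * M = ((k : ℚ) - s) • J X := by
      rw [hM, mul_sub, J_mul_A R hk, mul_smul_comm, mul_one, sub_smul]
    have h3 : (J X : Matrix X X ℚ).mulVec (M.mulVec g) = 0 := by
      rw [Matrix.mulVec_mulVec, hJM, Matrix.smul_mulVec, hJg, smul_zero]
    have h4 := congrFun h3 R.x0
    simpa only [J, Matrix.mulVec, dotProduct, Matrix.of_apply, one_mul, Pi.zero_apply] using h4

open Classical in
theorem quad_eq {n B C r : ℚ} {f : X → ℚ} (hf : (A R).mulVec f = r • f) (hf1 : ∑ x, f x = 0) :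
    ∑ x, ∑ y, f x * f y * (if x = y then n else if Adj R x y then B else C) =
      (n + r * B - (1 + r) * C) * ∑ x, f x * f x := by
  rw [Finset.mul_sum]
  refine Finset.sum_congr rfl fun x _ => ?_
  have h1 : ∑ y, (if Adj R x y then f y else 0) = r * f x := by
    have h2 := congrFun hf x
    rw [Pi.smul_apply, smul_eq_mul] at h2
    rw [← h2]
    simp only [A, Matrix.mulVec, dotProduct, Matrix.of_apply, ite_mul, one_mul, zero_mul]
  have h2 : ∀ y, f x * f y * (if x = y then n else if Adj R x y then B else C) =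
      f x * ((if x = y then (n - C) * f y else 0) + (B - C) * (if Adj R x y then f y else 0) + C * f y) := by
    intro y
    by_cases hxy : x = y
    · have h3 : ¬ Adj R x y := fun h => h.1 hxy
      rw [if_pos hxy, if_pos hxy, if_neg h3]
      ring
    · by_cases h3 : Adj R x y
      · rw [if_neg hxy, if_neg hxy, if_pos h3, if_pos h3]
        ring
      · rw [if_neg hxy, if_neg hxy, if_neg h3, if_neg h3]
        ring
  rw [Finset.sum_congr rfl fun y _ => h2 y, ← Finset.mul_sum, Finset.sum_add_distrib, Finset.sum_add_distrib,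
    ← Finset.mul_sum, ← Finset.mul_sum, h1, hf1, Finset.sum_ite_eq]
  simp only [Finset.mem_univ, if_true]
  ring

end

section

variable {G : Type u} {X : Type*} [Group G] [Fintype G] [MulAction G X] (R : Rank3 G X) {χ : G → ℂ}

omit [Fintype G] in
theorem t_sq (x : X) : R.t x * R.t x = 1 := by
  obtain ⟨g, rfl⟩ := R.trans x
  rw [R.map_smul]
  calc g * R.t R.x0 * g⁻¹ * (g * R.t R.x0 * g⁻¹) = g * (R.t R.x0 * R.t R.x0) * g⁻¹ := by group
    _ = 1 := by rw [R.sq]; group

omit [Fintype G] in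
theorem t_inv (x : X) : (R.t x)⁻¹ = R.t x := inv_eq_of_mul_eq_one_left (t_sq R x)

theorem val_smul (hχ : IsIrrCharacter G χ) (g : G) (x y : X) :
    χ (R.t (g • x) * R.t (g • y)) = χ (R.t x * R.t y) := by
  rw [R.map_smul, R.map_smul, ← isIrr_isClassFunction hχ (R.t x * R.t y) g]
  congr 1
  group

theorem val_adj (hχ : IsIrrCharacter G χ) {x y : X} (h : Adj R x y) :
    χ (R.t x * R.t y) = χ (R.t R.x0 * R.t R.c) := by
  obtain ⟨g, rfl, rfl⟩ := exists_adj R h
  exact val_smul R hχ g _ _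

theorem val_ncom (hχ : IsIrrCharacter G χ) {x y : X} (h : ¬ R.Com x y) :
    χ (R.t x * R.t y) = χ (R.t R.x0 * R.t R.b) := by
  obtain ⟨g, rfl, rfl⟩ := exists_ncom R h
  exact val_smul R hχ g _ _

theorem val_t (hχ : IsIrrCharacter G χ) (x : X) : χ (R.t x) = χ (R.t R.x0) := by
  obtain ⟨g, rfl⟩ := R.trans x
  rw [R.map_smul, isIrr_isClassFunction hχ]

variable [Fintype X]

open Classical in
/-- **PSD** : `n + r B - (1 + r) C ≥ 0`. -/
theorem psd_rank3 (hχ : IsIrrCharacter G χ) {k l m : ℕ} (hk : (nb R R.x0).ncard = k)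
    (hl : (cn R R.x0 R.c).ncard = l) (hm : (cn R R.x0 R.b).ncard = m) {r s : ℚ} (h1 : r + s = (l : ℚ) - m)
    (h2 : r * s = m - k) (hs : s ≠ -1) {n B C : ℚ} (hn : χ 1 = n) (hpos : 0 < n)
    (hB : χ (R.t R.x0 * R.t R.c) = B) (hC : χ (R.t R.x0 * R.t R.b) = C) : 0 ≤ n + r * B - (1 + r) * C := by
  obtain ⟨f, hf0, hf, hf1⟩ := exists_eigen R hk hl hm h1 h2 hs
  obtain ⟨q, hq, hsum⟩ := psd_sum hχ (n := (n : ℝ)) (by rw [hn]; push_cast; rfl) (by exact_mod_cast hpos) R.t
    (fun x => (f x : ℝ))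
  have h3 : ∑ x, ∑ y, ((f x : ℝ) : ℂ) * ((f y : ℝ) : ℂ) * χ (R.t x * (R.t y)⁻¹) =
      ((∑ x, ∑ y, f x * f y * (if x = y then n else if Adj R x y then B else C) : ℚ) : ℂ) := by
    push_cast
    refine Finset.sum_congr rfl fun x _ => Finset.sum_congr rfl fun y _ => ?_
    congr 1
    rw [t_inv]
    by_cases hxy : x = y
    · rw [if_pos hxy, hxy, t_sq, hn]
    · by_cases h : Adj R x y
      · rw [if_neg hxy, if_pos h, val_adj R hχ h, hB]
      · rw [if_neg hxy, if_neg h, val_ncom R hχ (fun h' => h ⟨hxy, h'⟩), hC]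
  rw [h3, quad_eq R hf hf1] at hsum
  have h4 : (((n + r * B - (1 + r) * C) * ∑ x, f x * f x : ℚ) : ℝ) = q := by exact_mod_cast hsum
  have h5 : (0 : ℚ) ≤ (n + r * B - (1 + r) * C) * ∑ x, f x * f x := by
    rw [← h4] at hq
    exact_mod_cast hq
  have h6 : 0 < ∑ x, f x * f x := by
    obtain ⟨x, hx⟩ := Function.ne_iff.1 hf0
    rw [Pi.zero_apply] at hx
    exact Finset.sum_pos' (fun y _ => mul_self_nonneg _) ⟨x, Finset.mem_univ _, mul_self_pos.2 hx⟩
  exact nonneg_of_mul_nonneg_left h5 h6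

open Classical in
theorem sum_class (f : G → ℂ) : ∑ u with IsConj (R.t R.x0) u, f u = ∑ x : X, f (R.t x) := by
  symm
  refine Finset.sum_bij (fun x _ => R.t x) (fun x _ => ?_) (fun x _ y _ h => R.t_injective h) (fun u hu => ?_)
    fun _ _ => rfl
  · obtain ⟨g, rfl⟩ := R.trans x
    rw [Finset.mem_filter]
    exact ⟨Finset.mem_univ _, isConj_iff.2 ⟨g, (R.map_smul g _).symm⟩⟩
  · rw [Finset.mem_filter] at hu
    obtain ⟨g, hg⟩ := isConj_iff.1 hu.2
    exact ⟨g • R.x0, Finset.mem_univ _, by rw [R.map_smul, hg]⟩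

theorem index_eq : (Subgroup.centralizer ({R.t R.x0} : Set G)).index = Fintype.card X := by
  classical
  rw [← ClassMul.card_filter_isConj, ← Finset.card_univ (α := X)]
  symm
  refine Finset.card_bij (fun x _ => R.t x) (fun x _ => ?_) (fun x _ y _ h => R.t_injective h) (fun u hu => ?_)
  · obtain ⟨g, rfl⟩ := R.trans x
    rw [Finset.mem_filter]
    exact ⟨Finset.mem_univ _, isConj_iff.2 ⟨g, (R.map_smul g _).symm⟩⟩
  · rw [Finset.mem_filter] at hu
    obtain ⟨g, hg⟩ := isConj_iff.1 hu.2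
    exact ⟨g • R.x0, Finset.mem_univ _, by rw [R.map_smul, hg]⟩

/-- `∑_x χ(t x y) = |X| u χ(y) / n` -/
theorem sum_t (hχ : IsIrrCharacter G χ) (y : G) :
    ∑ x : X, χ (R.t x * y) = (Fintype.card X : ℂ) * χ (R.t R.x0) * χ y / χ 1 := by
  classical
  rw [← sum_class R (fun u => χ (u * y)), ClassMul.sum_class_char_mul hχ, index_eq]

open Classical in
/-- **The rank three relation.** -/
theorem rel_rank3 (hχ : IsIrrCharacter G χ) {k : ℕ} (hk : (nb R R.x0).ncard = k) {n u B C : ℂ} (hn : χ 1 = n)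
    (hn0 : n ≠ 0) (hu : χ (R.t R.x0) = u) (hB : χ (R.t R.x0 * R.t R.c) = B) (hC : χ (R.t R.x0 * R.t R.b) = C) :
    n * (n + k * B + ((Fintype.card X : ℂ) - 1 - k) * C) = (Fintype.card X : ℂ) * u ^ 2 := by
  have h1 := sum_t R hχ (R.t R.x0)
  have h2 : ∀ x : X, χ (R.t x * R.t R.x0) =
      C + (if R.x0 = x then n - C else 0) + (B - C) * (if Adj R R.x0 x then 1 else 0) := by
    intro x
    by_cases hx : R.x0 = x
    · have h3 : ¬ Adj R R.x0 x := fun h => h.1 hx
      rw [if_pos hx, if_neg h3, ← hx, t_sq, hn]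
      ring
    · by_cases h : Adj R R.x0 x
      · rw [if_neg hx, if_pos h, val_adj R hχ (adj_symm R h), hB]
        ring
      · rw [if_neg hx, if_neg h, val_ncom R hχ (fun h' => h ⟨hx, R.com_symm h'⟩), hC]
        ring
  have h3 : (∑ x : X, if Adj R R.x0 x then (1 : ℂ) else 0) = k := by
    rw [Finset.sum_boole, ← hk, Set.ncard_eq_toFinset_card']
    congr 2
    ext z
    rw [Finset.mem_filter, Set.mem_toFinset]
    exact ⟨fun h => h.2, fun h => ⟨Finset.mem_univ _, h⟩⟩
  rw [Finset.sum_congr rfl fun x _ => h2 x, Finset.sum_add_distrib, Finset.sum_add_distrib, Finset.sum_const,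
    Finset.card_univ, Finset.sum_ite_eq, if_pos (Finset.mem_univ _), ← Finset.mul_sum, h3, nsmul_eq_mul, hu, hn] at h1
  have h4 : n * ((Fintype.card X : ℂ) * C + (n - C) + (B - C) * k) = (Fintype.card X : ℂ) * u * u := by
    rw [h1]
    field_simp
  linear_combination h4

end

end Cfsg.Agent.H180.PSD
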