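import Cfsg.Agent.H180.PSD.Gen
import Cfsg.Agent.SmallSimple.InvolColumn
import Cfsg.Agent.Classification.InvCent.Wreathed
import Cfsg.Agent.Blocks.CentralProduct

/-!
# Integrality of the values of a character on a rank three class of 3-transpositions (helper180)

`exists_rank3_vals` : the values `χ(1) = n`, `χ(d) = u`, `χ(d e) = B` (commuting), `χ(d e) = C` (not commuting) are integers,
with `n (n + k B + l C) = |X| u²`, `n ∣ |X| u`, `2 n ∣ |X| k B`.
-/

set_option autoImplicit false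

namespace Cfsg.Agent.H180.PSD

open Cfsg Cfsg.Agent.Characters Cfsg.Agent.Characters.Core
open Cfsg.Agent.Fischer.Abstract Cfsg.Agent.LThreeM.SrgFix Cfsg.Agent.LThreeM.Benson
open scoped ComplexConjugate

universe u

/-- the degree divides `|class| χ(g)` if `χ(g)` is an integer -/
theorem dvd_index_mul {G : Type u} [Group G] [Finite G] {χ : G → ℂ} (hχ : IsIrrCharacter G χ) {g : G} {n v : ℤ}
    (hn : χ 1 = n) (hn0 : n ≠ 0) (hv : χ g = v) : n ∣ ((Subgroup.centralizer ({g} : Set G)).index : ℤ) * v := by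
  have h1 := Blocks.CentralProduct.isIntegral_centralChar hχ g
  rw [centralChar, hn, hv] at h1
  have h2 : (((Subgroup.centralizer ({g} : Set G)).index : ℂ) * (v : ℂ) / (n : ℂ)) =
      ((((Subgroup.centralizer ({g} : Set G)).index * v : ℤ) : ℚ) / (n : ℚ) : ℚ) := by push_cast; rfl
  rw [h2] at h1
  obtain ⟨z, hz⟩ := SmallSimple.InvolColumn.exists_int_of_isIntegral h1
  have hn0' : (n : ℚ) ≠ 0 := by exact_mod_cast hn0
  rw [eq_div_iff hn0'] at hz
  exact ⟨z, by rw [mul_comm n z]; exact_mod_cast hz.symm⟩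

section

variable {G : Type u} {X : Type*} [Group G] [MulAction G X] (R : Rank3 G X) [Fintype X]

open Classical in
theorem card_adj {k : ℕ} (hk : (nb R R.x0).ncard = k) :
    (Finset.univ.filter fun p : X × X => Adj R p.1 p.2).card = Fintype.card X * k := by
  have h1 : (Finset.univ.filter fun p : X × X => Adj R p.1 p.2) =
      Finset.univ.biUnion fun x : X => ((Finset.univ.filter fun y => Adj R x y).image fun y => (x, y)) := by
    ext ⟨x, y⟩
    simp
  rw [h1, Finset.card_biUnion]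
  · have h2 : ∀ x : X, ((Finset.univ.filter fun y => Adj R x y).image fun y => (x, y)).card = k := by
      intro x
      rw [Finset.card_image_of_injective _ (fun a b h => (Prod.ext_iff.1 h).2), ← hk, ← ncard_nb R x,
        Set.ncard_eq_toFinset_card']
      congr 1
      ext z
      rw [Finset.mem_filter, Set.mem_toFinset]
      exact ⟨fun h => h.2, fun h => ⟨Finset.mem_univ _, h⟩⟩
    rw [Finset.sum_congr rfl fun x _ => h2 x, Finset.sum_const, Finset.card_univ, smul_eq_mul]
  · intro x _ y _ hxy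
    rw [Function.onFun, Finset.disjoint_left]
    intro p hp hq
    obtain ⟨a, -, rfl⟩ := Finset.mem_image.1 hp
    obtain ⟨b, -, h⟩ := Finset.mem_image.1 hq
    exact hxy (Prod.ext_iff.1 h).1.symm

/-- twice the size of the class of `d e` divides the number of the ordered pairs -/
theorem index_pair [Finite G] {k : ℕ} (hk : (nb R R.x0).ncard = k) :
    2 * (Subgroup.centralizer ({R.t R.x0 * R.t R.c} : Set G)).index ∣ Fintype.card X * k := by
  classical
  have _ := Fintype.ofFinite G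
  set g := R.t R.x0 * R.t R.c with hg
  let P : Finset (X × X) := Finset.univ.filter fun p : X × X => Adj R p.1 p.2
  let K : Finset G := Finset.univ.filter fun v => IsConj g v
  have hmap : ∀ p ∈ P, R.t p.1 * R.t p.2 ∈ K := by
    rintro ⟨x, y⟩ hp
    obtain ⟨a, rfl, rfl⟩ := exists_adj R (Finset.mem_filter.1 hp).2
    rw [Finset.mem_filter]
    refine ⟨Finset.mem_univ _, isConj_iff.2 ⟨a, ?_⟩⟩
    simp only [R.map_smul]
    rw [hg]
    group
  have hfib : ∀ v ∈ K, (P.filter fun p => R.t p.1 * R.t p.2 = v).card = (P.filter fun p => R.t p.1 * R.t p.2 = g).card := by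
    intro v hv
    obtain ⟨a, ha⟩ := isConj_iff.1 (Finset.mem_filter.1 hv).2
    symm
    refine Finset.card_bij (fun p _ => (a • p.1, a • p.2)) ?_ ?_ ?_
    · rintro ⟨x, y⟩ hp
      obtain ⟨h1, h2⟩ := Finset.mem_filter.1 hp
      rw [Finset.mem_filter, Finset.mem_filter]
      refine ⟨⟨Finset.mem_univ _, (adj_smul R a x y).2 (Finset.mem_filter.1 h1).2⟩, ?_⟩
      simp only [R.map_smul]
      rw [← ha, ← h2]
      group
    · rintro ⟨x, y⟩ _ ⟨x', y'⟩ _ h
      have h1 := (Prod.ext_iff.1 h).1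
      have h2 := (Prod.ext_iff.1 h).2
      exact Prod.ext (MulAction.injective a h1) (MulAction.injective a h2)
    · rintro ⟨x, y⟩ hp
      obtain ⟨h1, h2⟩ := Finset.mem_filter.1 hp
      refine ⟨(a⁻¹ • x, a⁻¹ • y), ?_, ?_⟩
      · rw [Finset.mem_filter, Finset.mem_filter]
        refine ⟨⟨Finset.mem_univ _, (adj_smul R a⁻¹ x y).2 (Finset.mem_filter.1 h1).2⟩, ?_⟩
        simp only [R.map_smul]
        have h3 : R.t x * R.t y = v := h2
        calc a⁻¹ * R.t x * a⁻¹⁻¹ * (a⁻¹ * R.t y * a⁻¹⁻¹) = a⁻¹ * (R.t x * R.t y) * a := by group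
          _ = g := by rw [h3, ← ha]; group
      · exact Prod.ext (smul_inv_smul _ _) (smul_inv_smul _ _)
  have h1 : P.card = K.card * (P.filter fun p => R.t p.1 * R.t p.2 = g).card := by
    rw [Finset.card_eq_sum_card_fiberwise hmap, Finset.sum_congr rfl hfib, Finset.sum_const, smul_eq_mul]
  have h2 : 2 ∣ (P.filter fun p => R.t p.1 * R.t p.2 = g).card := by
    rw [← ZMod.natCast_eq_zero_iff, Finset.card_eq_sum_ones, Nat.cast_sum]
    refine Finset.sum_involution (fun p _ => (p.2, p.1)) (fun p _ => by decide) (fun p hp _ h => ?_) (fun p hp => ?_)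
      (fun p _ => rfl)
    · obtain ⟨h1, -⟩ := Finset.mem_filter.1 hp
      exact (Finset.mem_filter.1 h1).2.1 (Prod.ext_iff.1 h).2
    · obtain ⟨h1, h2⟩ := Finset.mem_filter.1 hp
      have h3 := (Finset.mem_filter.1 h1).2
      rw [Finset.mem_filter, Finset.mem_filter]
      refine ⟨⟨Finset.mem_univ _, adj_symm R h3⟩, ?_⟩
      have h4 : R.t p.1 * R.t p.2 = R.t p.2 * R.t p.1 := h3.2
      rw [← h2, h4]
  have h3 : K.card = (Subgroup.centralizer ({g} : Set G)).index := by
    rw [← ClassMul.card_filter_isConj]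
  obtain ⟨c, hc⟩ := h2
  have h4 : P.card = Fintype.card X * k := card_adj R hk
  rw [← h4, h1, hc, h3]
  exact ⟨c, by ring⟩

/-- **The values on a rank three class.** -/
theorem exists_rank3_vals [Finite G] {χ : G → ℂ} (hχ : IsIrrCharacter G χ) {k l : ℕ} (hk : (nb R R.x0).ncard = k)
    (hl : Fintype.card X = 1 + k + l) (hl0 : l ≠ 0) : ∃ n u B C : ℤ, χ 1 = n ∧ 0 < n ∧ χ (R.t R.x0) = u ∧
      χ (R.t R.x0 * R.t R.c) = B ∧ χ (R.t R.x0 * R.t R.b) = C ∧ n * (n + k * B + l * C) = Fintype.card X * u ^ 2 ∧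
      n ∣ Fintype.card X * u ∧ 2 * n ∣ Fintype.card X * k * B := by
  have _ := Fintype.ofFinite G
  obtain ⟨d, hd0, hd⟩ := Core.isIrr_apply_one hχ
  have hc := Core.isIrr_isCharacter hχ
  obtain ⟨u, hu⟩ := Classification.InvCent.Wreathed.char_invol hc (t := R.t R.x0) (by rw [sq]; exact t_sq R _)
  obtain ⟨B, hB⟩ := Classification.InvCent.Wreathed.char_invol hc (t := R.t R.x0 * R.t R.c) (by
    have h1 : R.t R.x0 * R.t R.c = R.t R.c * R.t R.x0 := R.comm_c
    calc (R.t R.x0 * R.t R.c) ^ 2 = R.t R.x0 * (R.t R.c * R.t R.x0) * R.t R.c := by simp only [pow_two, mul_assoc]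
      _ = (R.t R.x0 * R.t R.x0) * (R.t R.c * R.t R.c) := by rw [← h1]; group
      _ = 1 := by rw [t_sq, t_sq, one_mul])
  have hd1 : (d : ℂ) ≠ 0 := by exact_mod_cast hd0.ne'
  have hl1 : (l : ℚ) ≠ 0 := by exact_mod_cast hl0
  have hd2 : (d : ℚ) ≠ 0 := by exact_mod_cast hd0.ne'
  have hrel := rel_rank3 R hχ hk hd hd1 hu hB rfl
  have hX : (Fintype.card X : ℂ) - 1 - k = l := by rw [hl]; push_cast; ring
  rw [hX] at hrel
  obtain ⟨C, hC⟩ : ∃ C : ℤ, χ (R.t R.x0 * R.t R.b) = C := by
    have h1 : χ (R.t R.x0 * R.t R.b) = ((((Fintype.card X : ℚ) * u ^ 2 / d - d - k * B) / l : ℚ) : ℂ) := by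
      have hl2 : (l : ℂ) ≠ 0 := by exact_mod_cast hl0
      push_cast
      rw [eq_div_iff hl2, eq_sub_iff_add_eq, eq_sub_iff_add_eq, eq_div_iff hd1]
      linear_combination hrel
    have h2 := Blocks.CentralProduct.isIntegral_irr hχ (R.t R.x0 * R.t R.b)
    rw [h1] at h2
    obtain ⟨z, hz⟩ := SmallSimple.InvolColumn.exists_int_of_isIntegral h2
    exact ⟨z, by rw [h1, ← hz]; push_cast; rfl⟩
  rw [hC] at hrel
  have hn : χ 1 = ((d : ℤ) : ℂ) := by rw [hd]; push_cast; rfl
  refine ⟨d, u, B, C, hn, by exact_mod_cast hd0, hu, hB, hC, by exact_mod_cast hrel, ?_, ?_⟩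
  · have h1 := dvd_index_mul hχ hn (by exact_mod_cast hd0.ne') hu
    rwa [index_eq R] at h1
  · have h1 := dvd_index_mul hχ hn (by exact_mod_cast hd0.ne') hB
    obtain ⟨c, hc⟩ := index_pair R hk
    obtain ⟨e, he⟩ := h1
    have h2 : ((Fintype.card X : ℤ) * k) = 2 * (Subgroup.centralizer ({R.t R.x0 * R.t R.c} : Set G)).index * c := by
      exact_mod_cast hc
    exact ⟨c * e, by rw [h2]; linear_combination (2 * (c : ℤ)) * he⟩

end

end Cfsg.Agent.H180.PSD
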